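import Cfsg.Agent.Lib.SpFourCore.Model
import Cfsg.Agent.Lib.L34Mult.TwoBound

/-!
# Realisations on `Syl K` by covers of `L₃(K)`

A central extension of `PSL₃(K)` whose kernel is the long non-simple root subgroup.
-/

set_option autoImplicit false
set_option linter.unusedSectionVars false

namespace Cfsg.Agent.SpFourCore.Groups

open Matrix Cfsg.Agent.AutPSL.Roots Cfsg.Agent.AutPSL.Basic Cfsg.Agent.Perm.L34Cover

variable {K : Type} [Field K] [Fintype K] [CharP K 2]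

local notation "SL3" => Matrix.SpecialLinearGroup (Fin 3) K
local notation "PSL3" => Matrix.ProjectiveSpecialLinearGroup (Fin 3) K
local notation "U3" => (unitri (n := 3) (F := K))

/-- the unitriangular matrix of a point -/
def uni (s : Syl K) : SL3 := ⟨!![1, s.a, s.c; 0, 1, s.b; 0, 0, 1], by simp [Matrix.det_fin_three]⟩

theorem uni_coe (s : Syl K) :
    (uni s : Matrix (Fin 3) (Fin 3) K) = !![1, s.a, s.c; 0, 1, s.b; 0, 0, 1] := rfl

theorem uni_mul (s t : Syl K) : uni (s * t) = uni s * uni t := by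
  refine Subtype.ext ?_
  ext i j
  fin_cases i <;> fin_cases j <;>
    simp [uni_coe, Matrix.SpecialLinearGroup.coe_mul, Matrix.mul_apply, Fin.sum_univ_three] <;> ring

theorem uni_mem (s : Syl K) : uni s ∈ unitriSL (n := 3) (F := K) := by
  constructor
  · intro i j h
    fin_cases i <;> fin_cases j <;> simp [uni_coe] at h ⊢
  · intro i
    fin_cases i <;> simp [uni_coe]

/-- the projection to `PSL₃` -/
def proj : Syl K →* PSL3 := (QuotientGroup.mk' _).comp (MonoidHom.mk' uni uni_mul)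

theorem proj_apply (s : Syl K) : proj s = QuotientGroup.mk (uni s) := rfl

theorem proj_range : (proj (K := K)).range = U3 := by
  refine le_antisymm ?_ ?_
  · rintro _ ⟨s, rfl⟩
    exact ⟨uni s, uni_mem s, rfl⟩
  · rintro _ ⟨u, hu, rfl⟩
    refine ⟨⟨u.1 0 1, u.1 1 2, u.1 0 2, 0⟩, congrArg QuotientGroup.mk (Subtype.ext ?_)⟩
    ext i j
    have h1 := hu.1
    have h2 := hu.2
    fin_cases i <;> fin_cases j <;> simp [uni_coe, h1, h2]

theorem proj_eq {s t : Syl K} (h : proj s = proj t) : s.a = t.a ∧ s.b = t.b ∧ s.c = t.c := by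
  have e := mk_injOn _ _ (uni_mem s) (uni_mem t) 0 h
  exact ⟨congrFun (congrFun (congrArg Subtype.val e) 0) 1,
    congrFun (congrFun (congrArg Subtype.val e) 1) 2, congrFun (congrFun (congrArg Subtype.val e) 0) 2⟩

theorem add_self (x : K) : x + x = 0 := CharTwo.add_self_eq_zero x

theorem pow_three (hq : Fintype.card K = 2 ∨ Fintype.card K = 4) {x : K} (hx : x ≠ 0) : x ^ 3 = 1 := by
  have h := FiniteField.pow_card_sub_one_eq_one x hx
  rcases hq with e | e <;> rw [e] at h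
  · rw [pow_one] at h; rw [h, one_pow]
  · exact h

/-- An element normalising the unitriangular group scales the two simple roots alike. -/
theorem conj_coords (hq : Fintype.card K = 2 ∨ Fintype.card K = 4) (g : PSL3)
    (hg : ∀ s : Syl K, ∃ t, g * proj s * g⁻¹ = proj t) :
    ∃ k : K, ∀ s t : Syl K, g * proj s * g⁻¹ = proj t → t.a = k * s.a ∧ t.b = k * s.b := by
  obtain ⟨m, rfl⟩ := QuotientGroup.mk_surjective g
  set M : Matrix (Fin 3) (Fin 3) K := (m : Matrix (Fin 3) (Fin 3) K) with hM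
  -- the scalar is one
  have key : ∀ s t : Syl K, QuotientGroup.mk m * proj s * (QuotientGroup.mk m)⁻¹ = proj t →
      m * uni s = uni t * m := by
    intro s t h
    rw [proj_apply, proj_apply, ← QuotientGroup.mk_inv, ← QuotientGroup.mk_mul,
      ← QuotientGroup.mk_mul] at h
    obtain ⟨k, hk⟩ := (mk_eq_mk_iff _ _).1 h.symm
    have htr := congrArg Matrix.trace hk
    rw [Matrix.trace_smul] at htr
    have hu : ∀ u : Syl K, Matrix.trace (uni u : Matrix (Fin 3) (Fin 3) K) = 1 := fun u => by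
      simp [uni_coe, Matrix.trace_fin_three, CharTwo.add_self_eq_zero]
    have e1 : Matrix.trace ((m * uni s * m⁻¹ : SL3) : Matrix (Fin 3) (Fin 3) K) = 1 := by
      rw [Matrix.SpecialLinearGroup.coe_mul, Matrix.trace_mul_comm, ← Matrix.SpecialLinearGroup.coe_mul,
        inv_mul_cancel_left, hu]
    rw [e1, hu, smul_eq_mul, mul_one] at htr
    rw [← htr, one_smul] at hk
    rw [← (Subtype.ext hk : m * uni s * m⁻¹ = uni t), inv_mul_cancel_right]
  obtain ⟨t, ht⟩ := hg ⟨1, 0, 0, 0⟩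
  obtain ⟨u, hu⟩ := hg ⟨0, 1, 0, 0⟩
  have e1 := fun i j => congrFun (congrFun (congrArg Subtype.val (key _ _ ht)) i) j
  have e2 := fun i j => congrFun (congrFun (congrArg Subtype.val (key _ _ hu)) i) j
  have h20 : M 2 0 = 0 := by
    have := e1 2 1
    simpa [uni_coe, Matrix.SpecialLinearGroup.coe_mul, Matrix.mul_apply, Fin.sum_univ_three, ← hM]
      using this
  have h21 : M 2 1 = 0 := by
    have := e2 2 2
    simpa [uni_coe, Matrix.SpecialLinearGroup.coe_mul, Matrix.mul_apply, Fin.sum_univ_three, ← hM]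
      using this
  have h10 : M 1 0 = 0 := by
    have := e1 1 1
    simpa [uni_coe, Matrix.SpecialLinearGroup.coe_mul, Matrix.mul_apply, Fin.sum_univ_three, ← hM, h21]
      using this
  have hdet : M 0 0 * M 1 1 * M 2 2 = 1 := by
    have h : M.det = 1 := m.2
    rw [Matrix.det_fin_three, h20, h21, h10] at h
    linear_combination h
  have h00 : M 0 0 ≠ 0 := fun h => by simp [h] at hdet
  have h11 : M 1 1 ≠ 0 := fun h => by simp [h] at hdet
  have h22 : M 2 2 ≠ 0 := fun h => by simp [h] at hdet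
  refine ⟨M 0 0 / M 1 1, fun s v hv => ?_⟩
  have e := fun i j => congrFun (congrFun (congrArg Subtype.val (key _ _ hv)) i) j
  have ea : M 0 0 * s.a = v.a * M 1 1 := by
    have h := e 0 1
    simp [uni_coe, Matrix.SpecialLinearGroup.coe_mul, Matrix.mul_apply, Fin.sum_univ_three, ← hM, h21] at h
    linear_combination h
  have eb : M 1 1 * s.b = v.b * M 2 2 := by
    have h := e 1 2
    simp [uni_coe, Matrix.SpecialLinearGroup.coe_mul, Matrix.mul_apply, Fin.sum_univ_three, ← hM, h10] at h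
    linear_combination h
  have h3 := pow_three hq h11
  constructor
  · field_simp
    linear_combination -ea
  · have : M 1 1 * M 1 1 = M 0 0 * M 2 2 := by
      have h' : (M 0 0 * M 2 2 - M 1 1 * M 1 1) * M 1 1 = 0 := by linear_combination hdet - h3
      exact (sub_eq_zero.1 ((mul_eq_zero.1 h').resolve_right h11)).symm
    field_simp
    have h'' : (v.b * M 1 1 - M 0 0 * s.b) * M 2 2 = 0 := by
      linear_combination -(M 1 1) * eb + s.b * this
    linear_combination (sub_eq_zero.1 ((mul_eq_zero.1 h'').resolve_right h22))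

/-- the parabolic element for `a = 0` -/
theorem exists_parA : ∃ g : PSL3, (∀ s : Syl K, s.a = 0 → ∃ t : Syl K, t.a = 0 ∧
    g * proj s * g⁻¹ = proj t) ∧ ∃ t : Syl K, g * proj ⟨0, 0, 1, 0⟩ * g⁻¹ = proj t ∧ t.b ≠ 0 := by
  let v : SL3 := ⟨!![1, 0, 0; 1, 1, 0; 0, 0, 1], by simp [Matrix.det_fin_three]⟩
  have hv : (v : Matrix (Fin 3) (Fin 3) K) = !![1, 0, 0; 1, 1, 0; 0, 0, 1] := rfl
  suffices h : ∀ s : Syl K, s.a = 0 → ∃ t : Syl K, t.a = 0 ∧
      QuotientGroup.mk v * proj s * (QuotientGroup.mk v : PSL3)⁻¹ = proj t ∧ t.b = s.b + s.c by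
    refine ⟨QuotientGroup.mk v, fun s hs => ?_, ?_⟩
    · obtain ⟨t, h1, h2, -⟩ := h s hs
      exact ⟨t, h1, h2⟩
    · obtain ⟨t, -, h2, h3⟩ := h ⟨0, 0, 1, 0⟩ rfl
      refine ⟨t, h2, ?_⟩
      rw [h3, zero_add]
      exact one_ne_zero
  intro s hs
  refine ⟨⟨0, s.b + s.c, s.c, 0⟩, rfl, ?_, rfl⟩
  rw [mul_inv_eq_iff_eq_mul, proj_apply, proj_apply, ← QuotientGroup.mk_mul, ← QuotientGroup.mk_mul]
  congr 1
  refine Subtype.ext ?_
  ext i j
  fin_cases i <;> fin_cases j <;>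
    simp [uni_coe, hv, hs, Matrix.SpecialLinearGroup.coe_mul, Matrix.mul_apply, Fin.sum_univ_three] <;> ring

/-- the parabolic element for `b = 0` -/
theorem exists_parB : ∃ g : PSL3, (∀ s : Syl K, s.b = 0 → ∃ t : Syl K, t.b = 0 ∧
    g * proj s * g⁻¹ = proj t) ∧ ∃ t : Syl K, g * proj ⟨0, 0, 1, 0⟩ * g⁻¹ = proj t ∧ t.a ≠ 0 := by
  let v : SL3 := ⟨!![1, 0, 0; 0, 1, 0; 0, 1, 1], by simp [Matrix.det_fin_three]⟩
  have hv : (v : Matrix (Fin 3) (Fin 3) K) = !![1, 0, 0; 0, 1, 0; 0, 1, 1] := rfl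
  suffices h : ∀ s : Syl K, s.b = 0 → ∃ t : Syl K, t.b = 0 ∧
      QuotientGroup.mk v * proj s * (QuotientGroup.mk v : PSL3)⁻¹ = proj t ∧ t.a = s.a + s.c by
    refine ⟨QuotientGroup.mk v, fun s hs => ?_, ?_⟩
    · obtain ⟨t, h1, h2, -⟩ := h s hs
      exact ⟨t, h1, h2⟩
    · obtain ⟨t, -, h2, h3⟩ := h ⟨0, 0, 1, 0⟩ rfl
      refine ⟨t, h2, ?_⟩
      rw [h3, zero_add]
      exact one_ne_zero
  intro s hs
  refine ⟨⟨s.a + s.c, 0, s.c, 0⟩, rfl, ?_, rfl⟩
  rw [mul_inv_eq_iff_eq_mul, proj_apply, proj_apply, ← QuotientGroup.mk_mul, ← QuotientGroup.mk_mul]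
  congr 1
  refine Subtype.ext ?_
  ext i j
  fin_cases i <;> fin_cases j <;>
    simp [uni_coe, hv, hs, Matrix.SpecialLinearGroup.coe_mul, Matrix.mul_apply, Fin.sum_univ_three,
      add_assoc, add_self]

/-- In a finite group an element conjugating a subgroup into itself normalises it. -/
theorem mem_normalizer_of_conj {G : Type*} [Group G] [Finite G] {H : Subgroup G} {g : G}
    (h : ∀ x ∈ H, g * x * g⁻¹ ∈ H) : g ∈ Subgroup.normalizer (H : Set G) := by
  have e : H.map (MulAut.conj g).toMonoidHom = H :=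
    Subgroup.eq_of_le_of_card_ge (by rintro _ ⟨x, hx, rfl⟩; exact h x hx)
      (Subgroup.card_map_of_injective (MulAut.conj g).injective).ge
  refine Subgroup.mem_normalizer_iff.2 fun x => ⟨h x, fun hx => ?_⟩
  rw [← e] at hx
  obtain ⟨y, hy, hyx⟩ := hx
  exact (MulAut.conj g).injective hyx ▸ hy

/-- A central extension of `PSL₃(K)` by the long non-simple root subgroup. -/
structure IsModel {X : Type} [Group X] (φ : X →* Matrix.ProjectiveSpecialLinearGroup (Fin 3) K)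
    (ι : Syl K →* X) : Prop where
  surj : Function.Surjective φ
  proj_eq : ∀ s, φ (ι s) = proj s
  ker : ∀ x, φ x = 1 → ∃ d, x = ι ⟨0, 0, 0, d⟩
  central : φ.ker ≤ Subgroup.center X
  inj : Function.Injective ι

namespace IsModel

variable {X : Type} [Group X] [Finite X] {φ : X →* Matrix.ProjectiveSpecialLinearGroup (Fin 3) K}
  {ι : Syl K →* X} (hm : IsModel φ ι)
include hm

theorem range_eq : ι.range = (U3).comap φ := by
  refine le_antisymm ?_ fun x hx => ?_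
  · rintro _ ⟨s, rfl⟩
    rw [Subgroup.mem_comap, hm.proj_eq, ← proj_range]
    exact ⟨s, rfl⟩
  · rw [Subgroup.mem_comap, ← proj_range] at hx
    obtain ⟨s, hs⟩ := hx
    obtain ⟨d, hd⟩ := hm.ker (x * (ι s)⁻¹) (by rw [map_mul, map_inv, hm.proj_eq, hs, mul_inv_cancel])
    exact ⟨⟨0, 0, 0, d⟩ * s, by rw [map_mul, ← hd, inv_mul_cancel_right]⟩

theorem axis_central (d : K) : ι ⟨0, 0, 0, d⟩ ∈ φ.ker := by
  rw [MonoidHom.mem_ker, hm.proj_eq, ← map_one proj, proj_apply, proj_apply]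
  rfl

theorem exists_normalizer_lift {H : Subgroup (Syl K)} (hH : ∀ d, (⟨0, 0, 0, d⟩ : Syl K) ∈ H)
    {g : Matrix.ProjectiveSpecialLinearGroup (Fin 3) K}
    (hg : ∀ s ∈ H, ∃ t ∈ H, g * proj s * g⁻¹ = proj t) {s₀ t₀ : Syl K}
    (hs₀ : g * proj s₀ * g⁻¹ = proj t₀) :
    ∃ x : X, (∀ s ∈ H, ∃ t ∈ H, x * ι s * x⁻¹ = ι t) ∧
      ∃ t, x * ι s₀ * x⁻¹ = ι t ∧ t.a = t₀.a ∧ t.b = t₀.b := by
  obtain ⟨x, rfl⟩ := hm.surj g
  have key : ∀ s t, φ x * proj s * (φ x)⁻¹ = proj t → ∃ d, x * ι s * x⁻¹ = ι (t * ⟨0, 0, 0, d⟩) := by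
    intro s t e
    obtain ⟨d, hd⟩ := hm.ker ((ι t)⁻¹ * (x * ι s * x⁻¹)) (by
      rw [map_mul, map_mul, map_mul, map_inv, map_inv, hm.proj_eq, hm.proj_eq, e, inv_mul_cancel])
    exact ⟨d, by rw [map_mul, ← hd, mul_inv_cancel_left]⟩
  refine ⟨x, fun s hs => ?_, ?_⟩
  · obtain ⟨t, ht, e⟩ := hg s hs
    obtain ⟨d, hd⟩ := key s t e
    exact ⟨_, mul_mem ht (hH d), hd⟩
  · obtain ⟨d, hd⟩ := key s₀ t₀ hs₀
    exact ⟨_, hd, by simp, by simp⟩

variable {G : Type} [Group G] [Finite G] (f : X →* G)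

theorem normalizer_map {H : Subgroup (Syl K)}
    (hH : ∀ d, (⟨0, 0, 0, d⟩ : Syl K) ∈ H) {g : Matrix.ProjectiveSpecialLinearGroup (Fin 3) K}
    (hg : ∀ s ∈ H, ∃ t ∈ H, g * proj s * g⁻¹ = proj t) {s₀ t₀ : Syl K}
    (hs₀ : g * proj s₀ * g⁻¹ = proj t₀) :
    ∃ y ∈ Subgroup.normalizer ((H.map (f.comp ι) : Subgroup G) : Set G),
      ∃ t, y * f.comp ι s₀ * y⁻¹ = f.comp ι t ∧ t.a = t₀.a ∧ t.b = t₀.b := by
  obtain ⟨x, h1, t, h2, h3⟩ := hm.exists_normalizer_lift hH hg hs₀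
  refine ⟨f x, mem_normalizer_of_conj ?_, t, ?_, h3⟩
  · rintro _ ⟨s, hs, rfl⟩
    obtain ⟨t, ht, e⟩ := h1 s hs
    exact ⟨t, ht, by rw [MonoidHom.comp_apply, MonoidHom.comp_apply, ← e, map_mul, map_mul, map_inv]⟩
  · rw [MonoidHom.comp_apply, MonoidHom.comp_apply, ← h2, map_mul, map_mul, map_inv]

theorem common (hf : Function.Injective f) (hodd : Odd f.range.index) :
    (∃ T : Sylow 2 G, (T : Subgroup G) = (f.comp ι).range) ∧
    (∃ g ∈ Subgroup.normalizer ((Syl.subA.map (f.comp ι) : Subgroup G) : Set G), ∃ y : Syl K,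
      g * f.comp ι ⟨0, 0, 1, 0⟩ * g⁻¹ = f.comp ι y ∧ y.b ≠ 0) ∧
    (∃ g ∈ Subgroup.normalizer ((Syl.subB.map (f.comp ι) : Subgroup G) : Set G), ∃ y : Syl K,
      g * f.comp ι ⟨0, 0, 1, 0⟩ * g⁻¹ = f.comp ι y ∧ y.a ≠ 0) := by
  refine ⟨?_, ?_, ?_⟩
  · have : Fact (Nat.Prime 2) := ⟨Nat.prime_two⟩
    obtain ⟨n, -, hn⟩ := FiniteField.card K 2
    have hp : IsPGroup 2 (f.comp ι).range := by
      refine IsPGroup.of_card (n := (n : ℕ) * 4) ?_
      rw [← Nat.card_congr (MonoidHom.ofInjective (show Function.Injective (f.comp ι) from hf.comp hm.inj)).toEquiv, Syl.natCard,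
        Nat.card_eq_fintype_card, hn, ← pow_mul]
    have hidx : ¬ 2 ∣ (f.comp ι).range.index := by
      rw [MonoidHom.range_comp, Subgroup.index_map, (MonoidHom.ker_eq_bot_iff f).2 hf, sup_bot_eq,
        hm.range_eq, Subgroup.index_comap_of_surjective _ hm.surj]
      exact Nat.two_dvd_ne_zero.2 (Nat.odd_iff.1 (L34Mult.odd_index.mul hodd))
    exact ⟨hp.toSylow hidx, rfl⟩
  · obtain ⟨g, hg, t, ht, hne⟩ := exists_parA (K := K)
    obtain ⟨y, hy, u, hu, -, hb⟩ := hm.normalizer_map f (H := Syl.subA) (fun d => rfl) hg ht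
    exact ⟨y, hy, u, hu, hb ▸ hne⟩
  · obtain ⟨g, hg, t, ht, hne⟩ := exists_parB (K := K)
    obtain ⟨y, hy, u, hu, ha, -⟩ := hm.normalizer_map f (H := Syl.subB) (fun d => rfl) hg ht
    exact ⟨y, hy, u, hu, ha ▸ hne⟩

theorem scalar (hq : Fintype.card K = 2 ∨ Fintype.card K = 4) {g : X}
    (hg : g ∈ Subgroup.normalizer ((ι.range : Subgroup X) : Set X)) :
    ∃ k : K, ∀ s t, g * ι s * g⁻¹ = ι t → t.a = k * s.a ∧ t.b = k * s.b := by
  have himg : ∀ s t, g * ι s * g⁻¹ = ι t → φ g * proj s * (φ g)⁻¹ = proj t := fun s t h => by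
    rw [← hm.proj_eq, ← hm.proj_eq, ← h, map_mul, map_mul, map_inv]
  obtain ⟨k, hk⟩ := conj_coords hq (φ g) fun s => by
    obtain ⟨t, ht⟩ := (Subgroup.mem_normalizer_iff.1 hg (ι s)).1 ⟨s, rfl⟩
    exact ⟨t, himg s t ht.symm⟩
  exact ⟨k, fun s t h => hk s t (himg s t h)⟩

end IsModel

end Cfsg.Agent.SpFourCore.Groups
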