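import Cfsg.Agent.Lib.L34Mult.TwoBound

/-!
# The cover of `L₃(4)` with centre elementary of order four, and its automorphisms
-/

set_option autoImplicit false
set_option linter.unusedSectionVars false

namespace Cfsg.Agent.SpFourCore.Groups

open Matrix Cfsg.Agent.AutPSL.Roots Cfsg.Agent.AutPSL.Basic Cfsg.Agent.Perm.L34Cover
open Cfsg.Agent.L34Mult
open scoped commutatorElement

variable {K : Type} [Field K] [Fintype K] [CharP K 2]

local notation "PSL3" => Matrix.ProjectiveSpecialLinearGroup (Fin 3) K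

/-- A perfect central extension of `L₃(4)` with elementary kernel of order four. -/
structure IsCover {X : Type} [Group X] (φ : X →* Matrix.ProjectiveSpecialLinearGroup (Fin 3) K) :
    Prop where
  surj : Function.Surjective φ
  central : φ.ker ≤ Subgroup.center X
  perfect : commutator X = ⊤
  card_ker : Nat.card φ.ker = 4
  sq : ∀ z ∈ φ.ker, z * z = 1

theorem exists_isCover (hF : Fintype.card K = 4) :
    ∃ (X : Type) (_ : Group X) (_ : Finite X) (φ : X →* PSL3), IsCover φ := by
  obtain ⟨D, gD, fD, σ, hσs, hσc, hperf, ⟨e⟩⟩ := exists_two_cover hF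
  let r : Coef →+ ZMod 2 × ZMod 2 := AddMonoidHom.prodMap
    (ZMod.castHom (show 2 ∣ 4 by norm_num) (ZMod 2)).toAddMonoidHom
    (ZMod.castHom (show 2 ∣ 4 by norm_num) (ZMod 2)).toAddMonoidHom
  let f : σ.ker →* Multiplicative (ZMod 2 × ZMod 2) := r.toMultiplicative.comp e.toMonoidHom
  have hfs : Function.Surjective f := fun y => by
    refine ⟨e.symm (Multiplicative.ofAdd (((Multiplicative.toAdd y).1.val : ZMod 4),
      ((Multiplicative.toAdd y).2.val : ZMod 4))), ?_⟩
    change Multiplicative.ofAdd (r (Multiplicative.toAdd (e (e.symm _)))) = y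
    simp [r]
  let N : Subgroup D := f.ker.map σ.ker.subtype
  have hNk : N ≤ σ.ker := Subgroup.map_subtype_le _
  have : N.Normal := ⟨fun n hn g => by
    rw [Subgroup.mem_center_iff.1 (hσc (hNk hn)) g, mul_inv_cancel_right]; exact hn⟩
  let φ : D ⧸ N →* PSL3 := QuotientGroup.lift N σ hNk
  have hφs : Function.Surjective φ := fun y => by
    obtain ⟨x, rfl⟩ := hσs y
    exact ⟨QuotientGroup.mk x, rfl⟩
  let g : σ.ker →* D ⧸ N := (QuotientGroup.mk' N).comp σ.ker.subtype
  have hgr : g.range = φ.ker := by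
    ext z
    obtain ⟨x, rfl⟩ := QuotientGroup.mk_surjective z
    constructor
    · rintro ⟨y, hy⟩
      rw [← hy]
      exact y.2
    · exact fun hx => ⟨⟨x, hx⟩, rfl⟩
  have hgk : g.ker = f.ker := by
    ext z
    rw [MonoidHom.mem_ker]
    change (QuotientGroup.mk (z : D) : D ⧸ N) = 1 ↔ _
    rw [QuotientGroup.eq_one_iff]
    exact Subgroup.mem_map_iff_mem σ.ker.subtype_injective
  refine ⟨D ⧸ N, inferInstance, inferInstance, φ, hφs, ?_, ?_, ?_, ?_⟩
  · intro x hx
    obtain ⟨x, rfl⟩ := QuotientGroup.mk_surjective x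
    refine Subgroup.mem_center_iff.2 fun y => ?_
    obtain ⟨y, rfl⟩ := QuotientGroup.mk_surjective y
    rw [← QuotientGroup.mk_mul, ← QuotientGroup.mk_mul, Subgroup.mem_center_iff.1 (hσc hx) y]
  · rw [commutator_def, ← Subgroup.map_top_of_surjective (QuotientGroup.mk' N)
      (QuotientGroup.mk'_surjective N), ← Subgroup.map_commutator, ← commutator_def, hperf]
  · rw [← hgr, ← Subgroup.index_ker, hgk, Subgroup.index_ker, MonoidHom.range_eq_top_of_surjective f hfs,
      Subgroup.card_top, Nat.card_eq_fintype_card]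
    rfl
  · intro z hz
    rw [← hgr] at hz
    obtain ⟨y, rfl⟩ := hz
    rw [← map_mul, ← MonoidHom.mem_ker, hgk, MonoidHom.mem_ker, map_mul]
    have h2 : ∀ a : Multiplicative (ZMod 2 × ZMod 2), a * a = 1 := by decide
    exact h2 _

namespace IsCover

variable {X : Type} [Group X] [Finite X] {φ : X →* Matrix.ProjectiveSpecialLinearGroup (Fin 3) K}
  (hc : IsCover φ)
include hc

theorem hker (x : X) : φ x = 1 ↔ x ∈ Subgroup.center X := ker_eq_center hc.surj hc.central x

theorem hZ : ∀ z ∈ Subgroup.center X, z * z = 1 := fun z hz => hc.sq z ((hc.hker z).2 hz)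

/-- An endomorphism over the identity is the identity. -/
theorem hom_eq_id (s : X →* X) (h : ∀ x, φ (s x) = φ x) (x : X) : s x = x := by
  have hle : commutator X ≤ MonoidHom.eqLocus s (MonoidHom.id X) := by
    rw [commutator_def, Subgroup.commutator_le]
    intro a _ b _
    change s ⁅a, b⁆ = ⁅a, b⁆
    rw [map_commutatorElement]
    exact Transfer.SplitLifts.comm_congr hc.central (h a) (h b)
  rw [hc.perfect] at hle
  exact hle (Subgroup.mem_top x)

/-- Automorphisms of `L₃(4)` lift to the cover. -/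
theorem exists_lift_aut (hF : Fintype.card K = 4) (α : MulAut PSL3) :
    ∃ σ : MulAut X, ∀ x, φ (σ x) = α (φ x) := by
  let P : Subgroup (X × X) := MonoidHom.eqLocus (φ.comp (MonoidHom.fst X X))
    (α.toMonoidHom.comp (φ.comp (MonoidHom.snd X X)))
  have hP : ∀ p : P, φ p.1.1 = α (φ p.1.2) := fun p => p.2
  let π₁ : P →* X := (MonoidHom.fst X X).comp P.subtype
  let π₂ : P →* X := (MonoidHom.snd X X).comp P.subtype
  have hπ₁ : Function.Surjective π₁ := fun u => by
    obtain ⟨v, hv⟩ := hc.surj (α.symm (φ u))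
    exact ⟨⟨(u, v), (show φ u = α (φ v) by rw [hv, MulEquiv.apply_symm_apply])⟩, rfl⟩
  have hπ₂ : Function.Surjective π₂ := fun v => by
    obtain ⟨u, hu⟩ := hc.surj (α (φ v))
    exact ⟨⟨(u, v), hu⟩, rfl⟩
  set ψ : P →* PSL3 := φ.comp π₁ with hψ
  have hψk : ∀ p : P, ψ p = 1 → π₁ p ∈ φ.ker ∧ π₂ p ∈ φ.ker := fun p hp => ⟨hp, by
    have h : α (φ (π₂ p)) = 1 := (hP p).symm.trans hp
    exact (map_eq_one_iff α α.injective).1 h⟩
  have hψc : ψ.ker ≤ Subgroup.center P := fun p hp => Subgroup.mem_center_iff.2 fun q =>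
    Subtype.ext (Prod.ext (Subgroup.mem_center_iff.1 (hc.central (hψk p hp).1) q.1.1)
      (Subgroup.mem_center_iff.1 (hc.central (hψk p hp).2) q.1.2))
  have hψs : Function.Surjective ψ := fun y => by
    obtain ⟨u, rfl⟩ := hc.surj y
    obtain ⟨p, rfl⟩ := hπ₁ u
    exact ⟨p, rfl⟩
  let D := commutator P
  have hDperf : commutator D = ⊤ := (perfect_derived hψs hψc).2
  let ρ₁ : D →* X := π₁.comp D.subtype
  let ρ₂ : D →* X := π₂.comp D.subtype
  have hsur : ∀ π : P →* X, Function.Surjective π → Function.Surjective (π.comp D.subtype) := by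
    intro π hπ y
    have hy := Subgroup.mem_top y
    rw [← hc.perfect, commutator_def, ← Subgroup.map_top_of_surjective π hπ,
      ← Subgroup.map_commutator, ← commutator_def] at hy
    obtain ⟨x, hx, rfl⟩ := hy
    exact ⟨⟨x, hx⟩, rfl⟩
  let χ : D →* PSL3 := φ.comp ρ₁
  have hχs : Function.Surjective χ := hc.surj.comp (hsur π₁ hπ₁)
  have hχc : χ.ker ≤ Subgroup.center D := fun d hd => Subgroup.mem_center_iff.2 fun e =>
    Subtype.ext (Subgroup.mem_center_iff.1 (hψc (show (d : P) ∈ ψ.ker from hd)) e.1)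
  have hχk := ker_eq_center hχs hχc
  have hle : Nat.card (Subgroup.center D) ≤ 4 := by
    refine card_center_le hF hχs hχk (fun z hz => ?_) hDperf
    have hk := hψk z.1 ((hχk z).2 hz)
    exact Subtype.ext (Subtype.ext (Prod.ext (hc.sq _ hk.1) (hc.sq _ hk.2)))
  have hinj : ∀ ρ : D →* X, Function.Surjective ρ → (∀ d, χ d = 1 ↔ φ (ρ d) = 1) →
      Function.Injective ρ := by
    intro ρ hρ hiff
    let m : Subgroup.center D → φ.ker := fun z => ⟨ρ z.1, (hiff _).1 ((hχk _).2 z.2)⟩
    have hm : Function.Surjective m := fun y => by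
      obtain ⟨d, hd⟩ := hρ y.1
      exact ⟨⟨d, (hχk d).1 ((hiff d).2 (by rw [hd]; exact y.2))⟩, Subtype.ext hd⟩
    have hcd : Nat.card (Subgroup.center D) = Nat.card φ.ker := by
      have := Nat.card_le_card_of_surjective m hm
      rw [hc.card_ker] at this ⊢
      omega
    have hmi : Function.Injective m :=
      ((Nat.bijective_iff_surjective_and_card m).2 ⟨hm, hcd⟩).1
    rw [injective_iff_map_eq_one]
    intro d hd
    have h1 := (hχk d).1 ((hiff d).2 (by rw [hd, map_one]))
    exact congrArg Subtype.val (@hmi ⟨d, h1⟩ ⟨1, one_mem _⟩ (Subtype.ext (hd.trans (map_one ρ).symm)))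
  have b₁ : Function.Bijective ρ₁ := ⟨hinj ρ₁ (hsur π₁ hπ₁) (fun d => Iff.rfl), hsur π₁ hπ₁⟩
  have b₂ : Function.Bijective ρ₂ := ⟨hinj ρ₂ (hsur π₂ hπ₂) (fun d => by
    change φ (π₁ d.1) = 1 ↔ _
    rw [show φ (π₁ d.1) = α (φ (π₂ d.1)) from hP d.1, map_eq_one_iff α α.injective]
    rfl), hsur π₂ hπ₂⟩
  refine ⟨(MulEquiv.ofBijective ρ₂ b₂).symm.trans (MulEquiv.ofBijective ρ₁ b₁), fun x => ?_⟩
  obtain ⟨d, rfl⟩ := b₂.2 x
  have h := (MulEquiv.ofBijective ρ₂ b₂).symm_apply_apply d
  rw [MulEquiv.ofBijective_apply] at h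
  rw [MulEquiv.trans_apply, h, MulEquiv.ofBijective_apply]
  exact hP d.1

end IsCover

end Cfsg.Agent.SpFourCore.Groups
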