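import Cfsg.Agent.Lib.SpFourCore.Groups.Base
import Cfsg.Agent.Lib.SpFourCore.Groups.Cover

/-!
# The embedding of `Syl K` in `2².L₃(4)` and the diagonal automorphism
-/

set_option autoImplicit false
set_option linter.unusedSectionVars false

namespace Cfsg.Agent.SpFourCore.Groups

open Matrix Cfsg.Agent.AutPSL.Roots Cfsg.Agent.AutPSL.Basic Cfsg.Agent.Perm.L34Cover
open Cfsg.Agent.L34Mult
open scoped commutatorElement

variable {K : Type} [Field K] [Fintype K] [CharP K 2]

local notation "SL3" => Matrix.SpecialLinearGroup (Fin 3) K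
local notation "PSL3" => Matrix.ProjectiveSpecialLinearGroup (Fin 3) K
local notation "U3" => (unitri (n := 3) (F := K))

/-- A torus element normalising both lines. -/
def tor (W : Frame K) : SL3 := ⟨!![W.w, 0, 0; 0, W.w + 1, 0; 0, 0, 1], by
  simp [Matrix.det_fin_three]
  linear_combination W.sq + W.w * W.two⟩

theorem tor_coe (W : Frame K) :
    (tor W : Matrix (Fin 3) (Fin 3) K) = !![W.w, 0, 0; 0, W.w + 1, 0; 0, 0, 1] := rfl

theorem tor_row (W : Frame K) (a : K) :
    ⁅(QuotientGroup.mk (tor W) : PSL3), (QuotientGroup.mk (rowE a 0) : PSL3)⁆ =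
      QuotientGroup.mk (rowE (W.w * a) 0) := by
  have e : tor W * rowE a 0 = rowE (W.w * a) 0 * (rowE a 0 * tor W) := by
    refine Subtype.ext ?_
    ext i j
    fin_cases i <;> fin_cases j <;>
      simp [tor_coe, rowE_coe, Matrix.SpecialLinearGroup.coe_mul, Matrix.mul_apply, Fin.sum_univ_three]
    linear_combination -a * W.sq - a * (W.w + 1) * W.two
  rw [commutatorElement_def, mul_assoc, ← _root_.mul_inv_rev, mul_inv_eq_iff_eq_mul,
    ← QuotientGroup.mk_mul, e, QuotientGroup.mk_mul, QuotientGroup.mk_mul]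

theorem tor_col (W : Frame K) (b : K) :
    ⁅(QuotientGroup.mk (tor W) : PSL3), (QuotientGroup.mk (colE b 0) : PSL3)⁆ =
      QuotientGroup.mk (colE (W.w * b) 0) := by
  have e : tor W * colE b 0 = colE (W.w * b) 0 * (colE b 0 * tor W) := by
    refine Subtype.ext ?_
    ext i j
    fin_cases i <;> fin_cases j <;>
      simp [tor_coe, colE_coe, Matrix.SpecialLinearGroup.coe_mul, Matrix.mul_apply, Fin.sum_univ_three]
    ring
  rw [commutatorElement_def, mul_assoc, ← _root_.mul_inv_rev, mul_inv_eq_iff_eq_mul,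
    ← QuotientGroup.mk_mul, e, QuotientGroup.mk_mul, QuotientGroup.mk_mul]

variable {X : Type} [Group X] [Finite X] {φ : X →* Matrix.ProjectiveSpecialLinearGroup (Fin 3) K}

namespace IsCover

variable (hc : IsCover φ)
include hc

theorem sq_mem (hF : Fintype.card K = 4) {A : Subgroup PSL3} (hA : A = rowG ∨ A = colG) {x : X}
    (hx : φ x ∈ A) : x * x = 1 := by
  rcases hA with rfl | rfl
  · exact squares hc.surj hc.hker hc.hZ (nice_row hF) hx
  · exact squares hc.surj hc.hker hc.hZ (nice_col hF) hx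

theorem comm_mem (hF : Fintype.card K = 4) {A : Subgroup PSL3} (hA : A = rowG ∨ A = colG) {x y : X}
    (hx : φ x ∈ A) (hy : φ y ∈ A) : Commute x y := by
  have hi : ∀ u : X, φ u ∈ A → u⁻¹ = u := fun u hu =>
    inv_eq_of_mul_eq_one_left (hc.sq_mem hF hA hu)
  calc x * y = (x * y)⁻¹ := (hi _ (by rw [map_mul]; exact mul_mem hx hy)).symm
    _ = y * x := by rw [_root_.mul_inv_rev, hi x hx, hi y hy]

/-- The canonical additive lift of one of the two simple root subgroups. -/
theorem exists_line (hF : Fintype.card K = 4) (W : Frame K) {A : Subgroup PSL3}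
    (hA : A = rowG ∨ A = colG) (e : K → SL3) (hadd : ∀ a b, e (a + b) = e a * e b)
    (hmem : ∀ a, (QuotientGroup.mk (e a) : PSL3) ∈ A)
    (htor : ∀ a, ⁅(QuotientGroup.mk (tor W) : PSL3), (QuotientGroup.mk (e a) : PSL3)⁆ =
      QuotientGroup.mk (e (W.w * a))) :
    ∃ x : K → X, (∀ a b, x (a + b) = x a * x b) ∧ (∀ a, φ (x a) = QuotientGroup.mk (e a)) ∧
      ∀ a t u, φ t = QuotientGroup.mk (tor W) → φ u = QuotientGroup.mk (e a) →
        x (W.w * a) = ⁅t, u⁆ := by
  obtain ⟨t₀, ht₀⟩ := hc.surj (QuotientGroup.mk (tor W))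
  choose L hL using fun a : K => hc.surj (QuotientGroup.mk (e (W.w⁻¹ * a)))
  have hLm : ∀ a, φ (L a) ∈ A := fun a => by rw [hL]; exact hmem _
  have hx : ∀ a, φ ⁅t₀, L a⁆ = QuotientGroup.mk (e a) := fun a => by
    rw [map_commutatorElement, ht₀, hL, htor, mul_inv_cancel_left₀ W.ne_zero]
  refine ⟨fun a => ⁅t₀, L a⁆, fun a b => ?_, hx, fun a t u ht hu => ?_⟩
  · have h1 : ⁅t₀, L (a + b)⁆ = ⁅t₀, L a * L b⁆ := Transfer.SplitLifts.comm_congr hc.central rfl
      (by rw [map_mul, hL, hL, hL, ← QuotientGroup.mk_mul, ← hadd, ← mul_add])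
    have h2 : ⁅t₀, L a * L b⁆ = ⁅t₀, L a⁆ * (L a * ⁅t₀, L b⁆ * (L a)⁻¹) := by
      simp only [commutatorElement_def]; group
    change ⁅t₀, L (a + b)⁆ = _
    rw [h1, h2, (hc.comm_mem hF hA (hLm a) (by rw [hx]; exact hmem b)).eq, mul_inv_cancel_right]
  · exact Transfer.SplitLifts.comm_congr hc.central (by rw [ht, ht₀])
      (by rw [hu, hL, inv_mul_cancel_left₀ W.ne_zero])

end IsCover

theorem rowE_add (a b : K) : rowE (a + b) 0 = rowE a 0 * rowE b 0 := by rw [rowE_mul, add_zero]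

theorem colE_add (a b : K) : colE (a + b) 0 = colE a 0 * colE b 0 := by rw [colE_mul, add_zero]

theorem proj_decomp (s : Syl K) : (proj s : PSL3) =
    QuotientGroup.mk (colE s.b 0) * QuotientGroup.mk (rowE s.a 0) * QuotientGroup.mk (rowE 0 s.c) := by
  rw [proj_apply, ← QuotientGroup.mk_mul, ← QuotientGroup.mk_mul]
  congr 1
  refine Subtype.ext ?_
  ext i j
  fin_cases i <;> fin_cases j <;>
    simp [uni_coe, rowE_coe, colE_coe, Matrix.SpecialLinearGroup.coe_mul, Matrix.mul_apply,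
      Fin.sum_univ_three]

theorem exists_syl_hom {G : Type*} [Group G] (x y : K → G) (θ : K → K → G)
    (xadd : ∀ a b, x (a + b) = x a * x b) (yadd : ∀ a b, y (a + b) = y a * y b)
    (θadd : ∀ c d c' d', θ (c + c') (d + d') = θ c d * θ c' d')
    (θx : ∀ c d a, Commute (θ c d) (x a)) (θy : ∀ c d b, Commute (θ c d) (y b))
    (rel : ∀ a b, x a * y b = θ (a * b) (a ^ 2 * b) * (y b * x a)) :
    ∃ ι : Syl K →* G, ∀ s, ι s = y s.b * x s.a * θ s.c s.d := by
  refine ⟨MonoidHom.mk' (fun s => y s.b * x s.a * θ s.c s.d) fun s t => ?_, fun _ => rfl⟩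
  set z := θ s.c s.d
  set z' := θ t.c t.d
  set r := θ (s.a * t.b) (s.a ^ 2 * t.b)
  have h1 : z * (y t.b * x t.a) = y t.b * x t.a * z := ((θy _ _ _).mul_right (θx _ _ _)).eq
  have h2 : r * (y t.b * x s.a * x t.a) = y t.b * x s.a * x t.a * r :=
    (((θy _ _ _).mul_right (θx _ _ _)).mul_right (θx _ _ _)).eq
  have h3 : θ (s * t).c (s * t).d = r * z * z' := by
    rw [← θadd, ← θadd]
    congr 1
    · simp only [Syl.mul_c]; ring
    · simp only [Syl.mul_d, CharTwo.two_eq_zero]; ring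
  rw [h3, Syl.mul_a, Syl.mul_b, xadd, yadd]
  symm
  calc y s.b * x s.a * z * (y t.b * x t.a * z')
      = y s.b * x s.a * (z * (y t.b * x t.a)) * z' := by simp only [mul_assoc]
    _ = y s.b * (x s.a * y t.b) * x t.a * z * z' := by rw [h1]; simp only [mul_assoc]
    _ = y s.b * (r * (y t.b * x s.a * x t.a)) * z * z' := by rw [rel]; simp only [mul_assoc]; rfl
    _ = y s.b * y t.b * (x s.a * x t.a) * (r * z * z') := by rw [h2]; simp only [mul_assoc]

/-- The cover is a model, and the diagonal automorphism acts on it. -/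
theorem exists_four (hF : Fintype.card K = 4) :
    ∃ (X : Type) (_ : Group X) (_ : Finite X) (φ : X →* PSL3) (ι : Syl K →* X) (σ : MulAut X) (w : K),
      IsModel φ ι ∧ σ ^ 3 = 1 ∧ (∀ k : K, k ≠ 0 → ∃ n : ℕ, k = w ^ n) ∧
        ∀ s, ∃ t, σ (ι s) = ι t ∧ t.a = w * s.a ∧ t.b = s.b := by
  obtain ⟨X, gX, fX, φ, hc⟩ := exists_isCover (K := K) hF
  obtain ⟨W⟩ := exists_frame hF
  obtain ⟨x, xadd, hx, xnat⟩ := hc.exists_line hF W (Or.inl rfl) (fun a => rowE a 0) rowE_add
    (fun a => mem_rowG.2 ⟨a, 0, rfl⟩) (tor_row W)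
  obtain ⟨y, yadd, hy, ynat⟩ := hc.exists_line hF W (Or.inr rfl) (fun a => colE a 0) colE_add
    (fun a => mem_colG.2 ⟨a, 0, rfl⟩) (tor_col W)
  have x0 : x 0 = 1 := left_eq_mul.1 (show x 0 = x 0 * x 0 by rw [← xadd, add_zero])
  have y0 : y 0 = 1 := left_eq_mul.1 (show y 0 = y 0 * y 0 by rw [← yadd, add_zero])
  let β : K → K → X := fun a b => ⁅x a, y b⁆
  have hβ : ∀ a b, φ (β a b) = QuotientGroup.mk (rowE 0 (a * b)) := fun a b => by
    change φ ⁅x a, y b⁆ = _
    rw [map_commutatorElement, hx, hy, commutatorElement_def, ← QuotientGroup.mk_mul, row_col_comm,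
      QuotientGroup.mk_mul, QuotientGroup.mk_mul]
    group
  have hβr : ∀ a b, φ (β a b) ∈ rowG := fun a b => mem_rowG.2 ⟨_, _, hβ a b⟩
  have hβc : ∀ a b, φ (β a b) ∈ colG := fun a b =>
    mem_colG.2 ⟨0, a * b, by rw [hβ, rowE_zero_eq_colE]⟩
  have hxr : ∀ a, φ (x a) ∈ rowG := fun a => mem_rowG.2 ⟨_, _, hx a⟩
  have hyc : ∀ a, φ (y a) ∈ colG := fun a => mem_colG.2 ⟨_, _, hy a⟩
  have cx : ∀ a b a', Commute (β a b) (x a') := fun a b a' =>
    hc.comm_mem hF (Or.inl rfl) (hβr a b) (hxr a')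
  have cy : ∀ a b b', Commute (β a b) (y b') := fun a b b' =>
    hc.comm_mem hF (Or.inr rfl) (hβc a b) (hyc b')
  have cβ : ∀ a b a' b', Commute (β a b) (β a' b') := fun a b a' b' =>
    hc.comm_mem hF (Or.inl rfl) (hβr a b) (hβr a' b')
  have βl : ∀ a a' b, β (a + a') b = β a b * β a' b := fun a a' b => by
    have e : β (a + a') b = x a * β a' b * (x a)⁻¹ * β a b := by
      simp only [β, xadd, commutatorElement_def]; group
    rw [e, ← (cx a' b a).eq, mul_inv_cancel_right, (cβ a' b a b).eq]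
  have βr : ∀ a b b', β a (b + b') = β a b * β a b' := fun a b b' => by
    have e : β a (b + b') = β a b * (y b * β a b' * (y b)⁻¹) := by
      simp only [β, yadd, commutatorElement_def]; group
    rw [e, ← (cy a b' b).eq, mul_inv_cancel_right]
  let θ : K → K → X := fun c d => β 1 (c + W.w * (c + d)) * β W.w (c + d)
  have θadd : ∀ c d c' d', θ (c + c') (d + d') = θ c d * θ c' d' := fun c d c' d' => by
    change β 1 _ * β W.w _ = β 1 _ * β W.w _ * (β 1 _ * β W.w _)
    rw [show c + c' + W.w * (c + c' + (d + d')) = (c + W.w * (c + d)) + (c' + W.w * (c' + d')) by ring,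
      show c + c' + (d + d') = (c + d) + (c' + d') by ring, βr 1 (c + W.w * (c + d)), βr W.w (c + d),
      (cβ _ _ _ _).mul_mul_mul_comm]
  have θ0 : θ 0 0 = 1 := left_eq_mul.1 (show θ 0 0 = θ 0 0 * θ 0 0 by rw [← θadd, add_zero])
  have θeq : ∀ a b, θ (a * b) (a ^ 2 * b) = β a b := by
    have h1 : ∀ b, θ (1 * b) (1 ^ 2 * b) = β 1 b := fun b => by
      simp only [θ, one_mul, one_pow, add_self, mul_zero, add_zero, β, y0, commutatorElement_one_right,
        mul_one]
    have h2 : ∀ b, θ (W.w * b) (W.w ^ 2 * b) = β W.w b := fun b => by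
      have e : W.w * b + W.w ^ 2 * b = b := by linear_combination b * W.sq + W.w * b * W.two
      simp only [θ, e, add_self, β, y0, commutatorElement_one_right, one_mul]
    intro a b
    rcases W.cases a with rfl | rfl | rfl | rfl
    · simp only [zero_mul, zero_pow two_ne_zero, θ0, β, x0, commutatorElement_one_left]
    · exact h1 b
    · exact h2 b
    · rw [show (W.w + 1) * b = W.w * b + 1 * b by ring,
        show (W.w + 1) ^ 2 * b = W.w ^ 2 * b + 1 ^ 2 * b by linear_combination (W.w * b) * W.two,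
        θadd, h1, h2, βl]
  have θx : ∀ c d a, Commute (θ c d) (x a) := fun c d a => (cx _ _ a).mul_left (cx _ _ a)
  have θy : ∀ c d b, Commute (θ c d) (y b) := fun c d b => (cy _ _ b).mul_left (cy _ _ b)
  have θproj : ∀ c d, φ (θ c d) = QuotientGroup.mk (rowE 0 c) := fun c d => by
    change φ (β 1 _ * β W.w _) = _
    rw [map_mul, hβ, hβ, ← QuotientGroup.mk_mul, rowE_mul, add_zero]
    congr 2
    linear_combination W.w * add_self (c + d)
  obtain ⟨ι, ιdef⟩ := exists_syl_hom x y θ xadd yadd θadd θx θy fun a b => by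
    rw [θeq]; simp only [β, commutatorElement_def]; group
  have hι : ∀ s, φ (ι s) = proj s := fun s => by
    rw [ιdef, map_mul, map_mul, hx, hy, θproj, proj_decomp]
  have hker : ∀ z, φ z = 1 → ∃ d, z = ι ⟨0, 0, 0, d⟩ := by
    intro z hz
    have hlift : ∀ v ∈ (U3).comap φ, ∃ s, φ v = φ (ι s) := fun v hv => by
      rw [Subgroup.mem_comap, ← proj_range] at hv
      obtain ⟨s, hs⟩ := hv
      exact ⟨s, by rw [hι, hs]⟩
    have hTT : ⁅(U3).comap φ, (U3).comap φ⁆ ≤ Syl.subAB.map ι := by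
      rw [Subgroup.commutator_le]
      intro u hu v hv
      obtain ⟨s, hs⟩ := hlift u hu
      obtain ⟨t, ht⟩ := hlift v hv
      rw [Transfer.SplitLifts.comm_congr hc.central hs ht, ← map_commutatorElement]
      refine Subgroup.mem_map_of_mem ι ?_
      simp [commutatorElement_def]
    have h1 := hTT (pow_index_mem_derived _ (hc.central hz) (hc.perfect ▸ Subgroup.mem_top z))
    obtain ⟨m, hm⟩ := odd_index (F := K)
    rw [Subgroup.index_comap_of_surjective _ hc.surj, hm, pow_succ, pow_mul, pow_two, hc.sq z hz,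
      one_pow, one_mul] at h1
    obtain ⟨r, ⟨ha, hb⟩, hr⟩ := h1
    have hp : proj r = proj (1 : Syl K) := by rw [← hι, hr, hz, map_one]
    refine ⟨r.d, ?_⟩
    rw [← hr]
    exact congrArg ι (Syl.ext ha hb (proj_eq hp).2.2 rfl)
  have hinj : Function.Injective ι := by
    have hk : ∀ d, φ (ι ⟨0, 0, 0, d⟩) = 1 := fun d => by
      rw [hι, ← map_one proj, proj_apply, proj_apply]; rfl
    let m : K → φ.ker := fun d => ⟨ι ⟨0, 0, 0, d⟩, hk d⟩
    have hm : Function.Surjective m := fun z => by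
      obtain ⟨d, hd⟩ := hker z z.2
      exact ⟨d, Subtype.ext hd.symm⟩
    have hmi := ((Nat.bijective_iff_surjective_and_card m).2
      ⟨hm, by rw [hc.card_ker, Nat.card_eq_fintype_card, hF]⟩).1
    rw [injective_iff_map_eq_one]
    intro s hs
    obtain ⟨ha, hb, hcc⟩ := proj_eq (show proj s = proj 1 by rw [← hι, hs, map_one, map_one])
    have e : s = ⟨0, 0, 0, s.d⟩ := Syl.ext ha hb hcc rfl
    rw [e] at hs ⊢
    have := @hmi s.d 0 (Subtype.ext (hs.trans (map_one ι).symm))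
    rw [this]; rfl
  -- the diagonal automorphism
  let J : GL (Fin 3) K := ⟨Matrix.diagonal ![W.w, 1, 1], Matrix.diagonal ![W.w⁻¹, 1, 1],
    by rw [Matrix.diagonal_mul_diagonal, ← Matrix.diagonal_one]; congr 1; funext i
       fin_cases i <;> simp [W.ne_zero],
    by rw [Matrix.diagonal_mul_diagonal, ← Matrix.diagonal_one]; congr 1; funext i
       fin_cases i <;> simp [W.ne_zero]⟩
  obtain ⟨σ, hσ⟩ := hc.exists_lift_aut hF (gAut J)
  have hJ : ∀ u v : SL3, (Matrix.diagonal ![W.w, 1, 1] * (u : Matrix (Fin 3) (Fin 3) K) *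
      Matrix.diagonal ![W.w⁻¹, 1, 1]) = v → gAut J (QuotientGroup.mk u : PSL3) = QuotientGroup.mk v :=
    fun u v h => by
      change descend (conjSL J) _ = _
      rw [descend_mk]
      exact congrArg QuotientGroup.mk (Subtype.ext ((conjSL_coe J u).trans h))
  have jt : gAut J (QuotientGroup.mk (tor W) : PSL3) = QuotientGroup.mk (tor W) := hJ _ _ (by
    ext i j
    fin_cases i <;> fin_cases j <;>
      simp [tor_coe, Matrix.mul_apply, Fin.sum_univ_three, W.ne_zero])
  have jx : ∀ a, gAut J (QuotientGroup.mk (rowE a 0) : PSL3) = QuotientGroup.mk (rowE (W.w * a) 0) :=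
    fun a => hJ _ _ (by
      ext i j
      fin_cases i <;> fin_cases j <;>
        simp [rowE_coe, Matrix.mul_apply, Fin.sum_univ_three, W.ne_zero])
  have jy : ∀ a, gAut J (QuotientGroup.mk (colE a 0) : PSL3) = QuotientGroup.mk (colE a 0) :=
    fun a => hJ _ _ (by
      ext i j
      fin_cases i <;> fin_cases j <;>
        simp [colE_coe, Matrix.mul_apply, Fin.sum_univ_three, W.ne_zero])
  obtain ⟨t₀, ht₀⟩ := hc.surj (QuotientGroup.mk (tor W))
  have σx : ∀ a, σ (x a) = x (W.w * a) := fun a => by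
    obtain ⟨u, hu⟩ := hc.surj (QuotientGroup.mk (rowE (W.w⁻¹ * a) 0))
    have h1 := xnat _ t₀ u ht₀ hu
    rw [mul_inv_cancel_left₀ W.ne_zero] at h1
    have h2 := xnat a (σ t₀) (σ u) (by rw [hσ, ht₀, jt])
      (by rw [hσ, hu, jx, mul_inv_cancel_left₀ W.ne_zero])
    rw [h1, h2]
    exact map_commutatorElement σ t₀ u
  have σy : ∀ b, σ (y b) = y b := fun b => by
    obtain ⟨u, hu⟩ := hc.surj (QuotientGroup.mk (colE (W.w⁻¹ * b) 0))
    have h1 := ynat _ t₀ u ht₀ hu
    have h2 := ynat _ (σ t₀) (σ u) (by rw [hσ, ht₀, jt]) (by rw [hσ, hu, jy])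
    rw [mul_inv_cancel_left₀ W.ne_zero] at h1 h2
    conv_rhs => rw [h2]
    rw [h1]
    exact map_commutatorElement σ t₀ u
  have σβ : ∀ a b, σ (β a b) = β (W.w * a) b := fun a b => by
    change σ ⁅x a, y b⁆ = ⁅x _, y b⁆
    rw [map_commutatorElement σ, σx, σy]
  have hσ3 : σ ^ 3 = 1 := by
    refine MulEquiv.ext fun z => hc.hom_eq_id (σ ^ 3).toMonoidHom (fun z => ?_) z
    change φ (σ (σ (σ z))) = φ z
    rw [hσ, hσ, hσ]
    change ((gAut J) * ((gAut J) * (gAut J))) (φ z) = φ z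
    rw [← map_mul, ← map_mul]
    have hJ3 : J * (J * J) = 1 := Units.ext (by
      change Matrix.diagonal ![W.w, 1, 1] * (Matrix.diagonal ![W.w, 1, 1] *
        Matrix.diagonal ![W.w, 1, 1]) = 1
      rw [Matrix.diagonal_mul_diagonal, Matrix.diagonal_mul_diagonal, ← Matrix.diagonal_one]
      congr 1; funext i
      fin_cases i <;> simp
      linear_combination (W.w + 1) * W.sq + W.w * W.two)
    rw [hJ3, map_one]
    rfl
  refine ⟨X, gX, fX, φ, ι, σ, W.w, ⟨hc.surj, hι, hker, hc.central, hinj⟩, hσ3, fun k hk => ?_,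
    fun s => ⟨⟨W.w * s.a, s.b, W.w * s.c, W.w ^ 2 * s.d⟩, ?_, rfl, rfl⟩⟩
  · rcases W.cases k with rfl | rfl | rfl | rfl
    · exact absurd rfl hk
    · exact ⟨0, (pow_zero _).symm⟩
    · exact ⟨1, (pow_one _).symm⟩
    · exact ⟨2, by rw [pow_two, W.sq]⟩
  · rw [ιdef, ιdef, map_mul, map_mul, σx, σy]
    congr 1
    change σ (β 1 _ * β W.w _) = _
    rw [map_mul, σβ, σβ, mul_one, ← θeq, ← θeq, ← θadd]
    congr 1
    · linear_combination W.w ^ 2 * add_self (s.c + s.d)
    · linear_combination W.w ^ 2 * (s.c + s.d) * W.sq + (W.w ^ 3 * (s.c + s.d) + W.w ^ 2 * s.c) * W.two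

end Cfsg.Agent.SpFourCore.Groups
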